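import Groth.Agent.S7449
import Groth.Agent.S2654
import Groth.Prelude.Def_EGA4b
import Mathlib.AlgebraicGeometry.FunctionField

/-!
# Valuative criteria over excellent bases need only essentially finite type DVRs
-/

set_option backward.isDefEq.respectTransparency false
set_option backward.isDefEq.respectTransparency.types false

universe u

open CategoryTheory Limits AlgebraicGeometry

namespace Groth.Agent.ValCrit95

variable {S X Y : Scheme.{u}}

theorem isNagata_of_excellent (hS : ∀ U : S.affineOpens, EGA4.IsExcellent Γ(S, U.1))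
    (U : S.affineOpens) : CAlg.IsNagata Γ(S, U.1) :=
  Groth.Agent.S2654.result _ ⟨(hS U).1, (hS U).2.2.1, (hS U).2.2.2⟩

theorem universallyClosed_of_essDvr (hS : ∀ U : S.affineOpens, EGA4.IsExcellent Γ(S, U.1))
    (f : X ⟶ Y) (g : Y ⟶ S) [QuasiCompact f] [LocallyOfFiniteType f] [LocallyOfFiniteType g]
    (H : ∀ sq : ValuativeCommSq f, IsDiscreteValuationRing sq.R →
      (∃ (U : S.affineOpens) (φ : Γ(S, U.1) ⟶ CommRingCat.of sq.R),
        Spec.map φ ≫ U.2.fromSpec = sq.i₂ ≫ g ∧ φ.hom.EssFiniteType) →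
      sq.commSq.HasLift) : UniversallyClosed f := by
  refine (Groth.Agent.S7449.result S (isNagata_of_excellent hS) (f ≫ g) g f rfl).2 ?_
  intro C r _ _ _ hn c hc hdim U hU u h hh hu k hk
  have : IsLocallyNoetherian S := ⟨fun W => (hS W).1⟩
  have : IsLocallyNoetherian C := LocallyOfFiniteType.isLocallyNoetherian r
  have := hn c
  have := Groth.Agent.CDiv6.isDVR_of_dim_eq_one (A := C.presheaf.stalk c) hdim
  have w : CommSq (k ≫ u) (Spec.map (CommRingCat.ofHom (algebraMap (C.presheaf.stalk c)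
      (FractionRing (C.presheaf.stalk c))))) f (C.fromSpecStalk c ≫ h) :=
    ⟨by rw [Category.assoc, hu, reassoc_of% hk]⟩
  obtain ⟨_, ⟨U₀, hU₀, rfl⟩, hcU, -⟩ := S.isBasis_affineOpens.exists_subset_of_mem_open
    (Set.mem_univ (r c)) isOpen_univ
  obtain ⟨_, ⟨W, hW, rfl⟩, hcW, e⟩ := C.isBasis_affineOpens.exists_subset_of_mem_open
    (show c ∈ (r ⁻¹ᵁ U₀ : Set C) from hcU) (r ⁻¹ᵁ U₀).isOpen
  have hess : ∃ (U : S.affineOpens) (φ : Γ(S, U.1) ⟶ C.presheaf.stalk c),
      Spec.map φ ≫ U.2.fromSpec = (C.fromSpecStalk c ≫ h) ≫ g ∧ φ.hom.EssFiniteType := by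
    refine ⟨⟨U₀, hU₀⟩, r.appLE U₀ W e ≫ C.presheaf.germ W c hcW, ?_, ?_⟩
    · rw [Spec.map_comp_assoc, IsAffineOpen.SpecMap_appLE_fromSpec r hU₀ hW e, Category.assoc, hh,
        ← hW.fromSpecStalk_eq_fromSpecStalk hcW, IsAffineOpen.fromSpecStalk, Category.assoc]
    · let := (r.appLE U₀ W e).hom.toAlgebra
      have : Algebra.FiniteType Γ(S, U₀) Γ(C, W) := r.finiteType_appLE hU₀ hW e
      let : Algebra Γ(C, W) (C.presheaf.stalk c) := (C.presheaf.germ W c hcW).hom.toAlgebra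
      have : IsLocalization.AtPrime (C.presheaf.stalk c) (hW.primeIdealOf ⟨c, hcW⟩).asIdeal :=
        hW.isLocalization_stalk ⟨c, hcW⟩
      have : Algebra.EssFiniteType Γ(C, W) (C.presheaf.stalk c) :=
        Algebra.EssFiniteType.of_isLocalization _ (hW.primeIdealOf ⟨c, hcW⟩).asIdeal.primeCompl
      let := ((r.appLE U₀ W e ≫ C.presheaf.germ W c hcW).hom).toAlgebra
      have : IsScalarTower Γ(S, U₀) Γ(C, W) (C.presheaf.stalk c) :=
        IsScalarTower.of_algebraMap_eq fun _ ↦ rfl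
      exact RingHom.essFiniteType_algebraMap.2 (Algebra.EssFiniteType.comp Γ(S, U₀) Γ(C, W) _)
  obtain ⟨l, hl₁, hl₂⟩ := (H ⟨C.presheaf.stalk c, FractionRing (C.presheaf.stalk c), k ≫ u,
    C.fromSpecStalk c ≫ h, w⟩ inferInstance hess).exists_lift
  exact ⟨l, hl₂, hl₁⟩

theorem existence_iff_essDvr (hS : ∀ U : S.affineOpens, EGA4.IsExcellent Γ(S, U.1))
    (f : X ⟶ Y) (g : Y ⟶ S) [QuasiCompact f] [LocallyOfFiniteType f] [LocallyOfFiniteType g] :
    (∀ sq : ValuativeCommSq f, IsDiscreteValuationRing sq.R → sq.commSq.HasLift) ↔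
    (∀ sq : ValuativeCommSq f, IsDiscreteValuationRing sq.R →
      (∃ (U : S.affineOpens) (φ : Γ(S, U.1) ⟶ CommRingCat.of sq.R),
        Spec.map φ ≫ U.2.fromSpec = sq.i₂ ≫ g ∧ φ.hom.EssFiniteType) →
      sq.commSq.HasLift) :=
  ⟨fun H sq h _ ↦ H sq h, fun H sq _ ↦
    (UniversallyClosed.eq_valuativeCriterion.le _ _ f (universallyClosed_of_essDvr hS f g H)).1 sq⟩

theorem isSeparated_of_essDvr (hS : ∀ U : S.affineOpens, EGA4.IsExcellent Γ(S, U.1))
    (f : X ⟶ Y) (g : Y ⟶ S) [QuasiCompact f] [LocallyOfFiniteType f] [LocallyOfFiniteType g]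
    (H : ∀ sq : ValuativeCommSq f, IsDiscreteValuationRing sq.R →
      (∃ (U : S.affineOpens) (φ : Γ(S, U.1) ⟶ CommRingCat.of sq.R),
        Spec.map φ ≫ U.2.fromSpec = sq.i₂ ≫ g ∧ φ.hom.EssFiniteType) →
      Subsingleton sq.commSq.LiftStruct) : IsSeparated f := by
  have : IsLocallyNoetherian S := ⟨fun W => (hS W).1⟩
  have : IsLocallyNoetherian Y := LocallyOfFiniteType.isLocallyNoetherian g
  have : IsLocallyNoetherian X := LocallyOfFiniteType.isLocallyNoetherian f
  have : QuasiSeparated f := inferInstance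
  have : LocallyOfFiniteType (pullback.diagonal f) := by
    have : LocallyOfFiniteType (pullback.diagonal f ≫ pullback.fst f f) := by
      rw [pullback.diagonal_fst]; infer_instance
    exact locallyOfFiniteType_of_comp _ (pullback.fst f f)
  have := universallyClosed_of_essDvr hS (pullback.diagonal f) (pullback.fst f f ≫ f ≫ g) ?_
  · exact ⟨IsClosedImmersion.of_isPreimmersion _ (pullback.diagonal f).isClosedMap.isClosed_range⟩
  intro sq hR hess
  obtain ⟨U, φ, hφ, hφ'⟩ := hess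
  have hc : CommSq sq.i₁ (Spec.map (CommRingCat.ofHom (algebraMap sq.R sq.K)))
      f (sq.i₂ ≫ pullback.fst f f ≫ f) := ⟨by simp [← sq.commSq.w_assoc]⟩
  let sq' : ValuativeCommSq f := ⟨sq.R, sq.K, sq.i₁, sq.i₂ ≫ pullback.fst f f ≫ f, hc⟩
  have : Subsingleton sq'.commSq.LiftStruct := H sq' hR
    ⟨U, φ, by rw [hφ, Category.assoc, Category.assoc], hφ'⟩
  let l₁ : sq'.commSq.LiftStruct := ⟨sq.i₂ ≫ pullback.fst f f,
    by simp [sq', ← sq.commSq.w_assoc], by simp [sq']⟩
  let l₂ : sq'.commSq.LiftStruct := ⟨sq.i₂ ≫ pullback.snd f f,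
    by simp [sq', ← sq.commSq.w_assoc], by simp [sq', pullback.condition]⟩
  have h₁₂ : l₁ = l₂ := Subsingleton.elim _ _
  constructor
  constructor
  refine ⟨sq.i₂ ≫ pullback.fst _ _, ?_, ?_⟩
  · simp [← sq.commSq.w_assoc]
  · simp only [Category.assoc]
    apply IsPullback.hom_ext (IsPullback.of_hasPullback _ _)
    · simp
    · simp only [Category.assoc, pullback.diagonal_snd, Category.comp_id]
      exact congrArg CommSq.LiftStruct.l h₁₂

theorem uniqueness_iff_essDvr (hS : ∀ U : S.affineOpens, EGA4.IsExcellent Γ(S, U.1))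
    (f : X ⟶ Y) (g : Y ⟶ S) [QuasiCompact f] [LocallyOfFiniteType f] [LocallyOfFiniteType g] :
    (∀ sq : ValuativeCommSq f, IsDiscreteValuationRing sq.R → Subsingleton sq.commSq.LiftStruct) ↔
    (∀ sq : ValuativeCommSq f, IsDiscreteValuationRing sq.R →
      (∃ (U : S.affineOpens) (φ : Γ(S, U.1) ⟶ CommRingCat.of sq.R),
        Spec.map φ ≫ U.2.fromSpec = sq.i₂ ≫ g ∧ φ.hom.EssFiniteType) →
      Subsingleton sq.commSq.LiftStruct) :=
  ⟨fun H sq h _ ↦ H sq h, fun H sq _ ↦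
    haveI := isSeparated_of_essDvr hS f g H
    IsSeparated.valuativeCriterion f sq⟩

end Groth.Agent.ValCrit95
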