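import Mathlib

/-!
# Morphisms from spectra of valuation rings: descent to the residue field, gluing
-/

universe u

open AlgebraicGeometry CategoryTheory Limits IsLocalRing

namespace Groth.Agent.ValCrit95

variable {X Y Z : Scheme.{u}}

/-- A morphism from a local spectrum factors through any affine open containing the closed image. -/
theorem exists_specMap_fromSpec {R : Type u} [CommRing R] [IsLocalRing R]
    (φ : Spec (CommRingCat.of R) ⟶ X) {U : X.Opens} (hU : IsAffineOpen U)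
    (hx : φ (closedPoint R) ∈ U) :
    ∃ ψ : Γ(X, U) ⟶ CommRingCat.of R, Spec.map ψ ≫ hU.fromSpec = φ := by
  have hr : Set.range φ ⊆ Set.range hU.fromSpec := by
    rw [hU.range_fromSpec]
    rintro _ ⟨t, rfl⟩
    exact ((specializes_closedPoint t).map φ.continuous).mem_open U.2 hx
  exact ⟨Spec.preimage (IsOpenImmersion.lift hU.fromSpec φ hr),
    by rw [Spec.map_preimage, IsOpenImmersion.lift_fac]⟩

theorem specMap_fromSpec_inj {R : CommRingCat.{u}} {U : X.Opens} (hU : IsAffineOpen U)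
    {a b : Γ(X, U) ⟶ R} (h : Spec.map a ≫ hU.fromSpec = Spec.map b ≫ hU.fromSpec) : a = b :=
  Spec.map_injective ((cancel_mono hU.fromSpec).1 h)

theorem specMap_closedPoint {R S : Type u} [CommRing R] [CommRing S] [IsLocalRing R]
    [IsLocalRing S] (f : R →+* S) [IsLocalHom f] :
    Spec.map (CommRingCat.ofHom f) (closedPoint S) = closedPoint R :=
  IsLocalRing.comap_closedPoint f

/-- Two morphisms from a local spectrum with the same closed image which agree after composing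
with an injective ring map agree. -/
theorem hom_ext_of_injective {R L : Type u} [CommRing R] [IsLocalRing R] [CommRing L]
    (j : R →+* L) (hj : Function.Injective j) (a b : Spec (CommRingCat.of R) ⟶ X)
    (hc : a (closedPoint R) = b (closedPoint R))
    (hab : Spec.map (CommRingCat.ofHom j) ≫ a = Spec.map (CommRingCat.ofHom j) ≫ b) : a = b := by
  obtain ⟨_, ⟨U, hU, rfl⟩, hx, -⟩ := X.isBasis_affineOpens.exists_subset_of_mem_open
    (Set.mem_univ (a (closedPoint R))) isOpen_univ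
  obtain ⟨α, rfl⟩ := exists_specMap_fromSpec a hU hx
  obtain ⟨β, rfl⟩ := exists_specMap_fromSpec b hU (by rw [← hc]; exact hx)
  have h := specMap_fromSpec_inj hU (a := α ≫ CommRingCat.ofHom j) (b := β ≫ CommRingCat.ofHom j)
    (by simpa [Spec.map_comp] using hab)
  have : α = β := CommRingCat.hom_ext (RingHom.ext fun x ↦ hj congr(($h).hom x))
  rw [this]

theorem isLocalHom_restrict {k K : Type u} [Field k] [Field K] (R₀ : ValuationSubring k)
    (R : ValuationSubring K) (g : k →+* K) (hR₀ : ∀ x, x ∈ R₀ ↔ g x ∈ R)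
    (ρ : R₀ →+* R) (hρ : ∀ x : R₀, ((ρ x : R) : K) = g (x : k)) : IsLocalHom ρ := by
  constructor
  intro x hx
  obtain ⟨y, hy⟩ := isUnit_iff_exists_inv.1 hx
  have hy' : g (x : k) * (y : K) = 1 := by rw [← hρ]; exact congr_arg Subtype.val hy
  have h0 : (x : k) ≠ 0 := by rintro h; simp [h] at hy'
  have hinv : (x : k)⁻¹ ∈ R₀ := by
    rw [hR₀, map_inv₀, inv_eq_of_mul_eq_one_right hy']; exact y.2
  exact isUnit_iff_exists_inv.2 ⟨⟨_, hinv⟩, Subtype.ext (mul_inv_cancel₀ h0)⟩

/-- A morphism from the spectrum of a valuation ring whose generic point factors through a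
subfield factors uniquely through the induced valuation ring of the subfield. -/
theorem existsUnique_factor {k K : Type u} [Field k] [Field K] (R₀ : ValuationSubring k)
    (R : ValuationSubring K) (g : k →+* K) (hR₀ : ∀ x, x ∈ R₀ ↔ g x ∈ R)
    (ρ : R₀ →+* R) (hρ : ∀ x : R₀, ((ρ x : R) : K) = g (x : k))
    (e : Spec (CommRingCat.of k) ⟶ X) (φ : Spec (CommRingCat.of R) ⟶ X)
    (w : Spec.map (CommRingCat.ofHom R.subtype) ≫ φ = Spec.map (CommRingCat.ofHom g) ≫ e) :
    ∃! φ' : Spec (CommRingCat.of R₀) ⟶ X, Spec.map (CommRingCat.ofHom ρ) ≫ φ' = φ ∧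
      Spec.map (CommRingCat.ofHom R₀.subtype) ≫ φ' = e := by
  have := isLocalHom_restrict R₀ R g hR₀ ρ hρ
  obtain ⟨_, ⟨U, hU, rfl⟩, hx, -⟩ := X.isBasis_affineOpens.exists_subset_of_mem_open
    (Set.mem_univ (φ (closedPoint R))) isOpen_univ
  obtain ⟨ψ, hψ⟩ := exists_specMap_fromSpec φ hU hx
  have he : e (closedPoint k) ∈ U := by
    have h1 : φ (Spec.map (CommRingCat.ofHom R.subtype) (closedPoint K)) ∈ U :=
      ((specializes_closedPoint _).map φ.continuous).mem_open U.2 hx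
    rwa [← Scheme.Hom.comp_apply, w, Scheme.Hom.comp_apply, specMap_closedPoint g] at h1
  obtain ⟨β, hβ⟩ := exists_specMap_fromSpec e hU he
  have heq : β ≫ CommRingCat.ofHom g = ψ ≫ CommRingCat.ofHom R.subtype :=
    specMap_fromSpec_inj hU (by simp [Spec.map_comp, hψ, hβ, w])
  have heq' (a) : g (β.hom a) = ((ψ.hom a : R) : K) := congr(($heq).hom a)
  let β' : Γ(X, U) →+* R₀ :=
    β.hom.codRestrict R₀.toSubring fun a ↦ (hR₀ _).2 (heq' a ▸ (ψ.hom a).2)
  have hβρ : CommRingCat.ofHom β' ≫ CommRingCat.ofHom ρ = ψ :=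
    CommRingCat.hom_ext (RingHom.ext fun a ↦ Subtype.ext ((hρ _).trans (heq' a)))
  have hβs : CommRingCat.ofHom β' ≫ CommRingCat.ofHom R₀.subtype = β :=
    CommRingCat.hom_ext (RingHom.ext fun _ ↦ rfl)
  refine ⟨Spec.map (CommRingCat.ofHom β') ≫ hU.fromSpec,
    ⟨by rw [← Spec.map_comp_assoc, hβρ, hψ], by rw [← Spec.map_comp_assoc, hβs, hβ]⟩, ?_⟩
  rintro φ'' ⟨h1, h2⟩
  have hc (φ₀ : Spec (CommRingCat.of R₀) ⟶ X) (h : Spec.map (CommRingCat.ofHom ρ) ≫ φ₀ = φ) :
      φ₀ (closedPoint R₀) = φ (closedPoint R) := by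
    rw [← h, Scheme.Hom.comp_apply, specMap_closedPoint ρ]
  refine hom_ext_of_injective R₀.subtype Subtype.val_injective _ _ ?_ ?_
  · rw [hc _ h1, hc]
    rw [← Spec.map_comp_assoc, hβρ, hψ]
  · rw [h2, ← Spec.map_comp_assoc, hβs, hβ]

theorem mem_of_mem_maximalIdeal {K : Type u} [Field K] {R R' : ValuationSubring K} (h : R ≤ R')
    {x : R'} (hx : x ∈ maximalIdeal R') : (x : K) ∈ R := by
  rcases R.mem_or_inv_mem (x : K) with h' | h'
  · exact h'
  · rcases eq_or_ne (x : K) 0 with h0 | h0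
    · rw [h0]; exact zero_mem R
    · exact absurd (isUnit_iff_exists_inv.2 ⟨⟨_, h h'⟩, Subtype.ext (mul_inv_cancel₀ h0)⟩) hx

/-- Gluing along a composite of valuation rings. -/
theorem existsUnique_glue (K : Type u) [Field K] (R R' : ValuationSubring K) (hRR' : R ≤ R')
    (ι : R →+* R') (hι : ∀ x : R, ((ι x : R') : K) = (x : K))
    (Rt : ValuationSubring (ResidueField R')) (σ : R →+* Rt) (hσs : Function.Surjective σ)
    (hσ : ∀ x : R, ((σ x : Rt) : ResidueField R') = residue R' (ι x))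
    (g : Spec (CommRingCat.of R') ⟶ Y) (ht : Spec (CommRingCat.of Rt) ⟶ Y)
    (hc : Spec.map (CommRingCat.ofHom Rt.subtype) ≫ ht =
      Spec.map (CommRingCat.ofHom (residue R')) ≫ g) :
    ∃! h : Spec (CommRingCat.of R) ⟶ Y,
      Spec.map (CommRingCat.ofHom ι) ≫ h = g ∧ Spec.map (CommRingCat.ofHom σ) ≫ h = ht := by
  have : IsLocalHom σ := IsLocalHom.of_surjective σ hσs
  obtain ⟨_, ⟨U, hU, rfl⟩, hx, -⟩ := Y.isBasis_affineOpens.exists_subset_of_mem_open
    (Set.mem_univ (ht (closedPoint Rt))) isOpen_univ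
  obtain ⟨γ, hγ⟩ := exists_specMap_fromSpec ht hU hx
  have hg : g (closedPoint R') ∈ U := by
    have h1 : ht (Spec.map (CommRingCat.ofHom Rt.subtype) (closedPoint _)) ∈ U :=
      ((specializes_closedPoint _).map ht.continuous).mem_open U.2 hx
    rwa [← Scheme.Hom.comp_apply, hc, Scheme.Hom.comp_apply, specMap_closedPoint (residue R')] at h1
  obtain ⟨β, hβ⟩ := exists_specMap_fromSpec g hU hg
  have heq : γ ≫ CommRingCat.ofHom Rt.subtype = β ≫ CommRingCat.ofHom (residue R') :=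
    specMap_fromSpec_inj hU (by simp [Spec.map_comp, hγ, hβ, hc])
  have heq' (a) : ((γ.hom a : Rt) : ResidueField R') = residue R' (β.hom a) := congr(($heq).hom a)
  have hmem (a) : ((β.hom a : R') : K) ∈ R := by
    obtain ⟨r, hr⟩ := hσs (γ.hom a)
    have h0 : residue R' (β.hom a - ι r) = 0 := by rw [map_sub, ← heq', ← hσ, hr, sub_self]
    have h1 := mem_of_mem_maximalIdeal hRR' ((residue_eq_zero_iff _).1 h0)
    simpa [hι] using R.add_mem _ _ h1 r.2
  let β' : Γ(Y, U) →+* R := (R'.subtype.comp β.hom).codRestrict R.toSubring hmem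
  have hβι : CommRingCat.ofHom β' ≫ CommRingCat.ofHom ι = β :=
    CommRingCat.hom_ext (RingHom.ext fun _ ↦ Subtype.ext (hι _))
  have hβσ : CommRingCat.ofHom β' ≫ CommRingCat.ofHom σ = γ := by
    refine CommRingCat.hom_ext (RingHom.ext fun a ↦ Subtype.ext ?_)
    rw [heq' a]
    exact (hσ _).trans (congr_arg _ (congr(($hβι).hom a)))
  refine ⟨Spec.map (CommRingCat.ofHom β') ≫ hU.fromSpec,
    ⟨by rw [← Spec.map_comp_assoc, hβι, hβ], by rw [← Spec.map_comp_assoc, hβσ, hγ]⟩, ?_⟩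
  rintro h'' ⟨h1, h2⟩
  have hcl (h₀ : Spec (CommRingCat.of R) ⟶ Y) (h : Spec.map (CommRingCat.ofHom σ) ≫ h₀ = ht) :
      h₀ (closedPoint R) = ht (closedPoint Rt) := by
    rw [← h, Scheme.Hom.comp_apply, specMap_closedPoint σ]
  refine hom_ext_of_injective ι (fun a b hab ↦ Subtype.ext ?_) _ _ ?_ ?_
  · rw [← hι, hab, hι]
  · rw [hcl _ h2, hcl]
    rw [← Spec.map_comp_assoc, hβσ, hγ]
  · rw [h1, ← Spec.map_comp_assoc, hβι, hβ]

/-- A quasi-compact dominant morphism meets the generizations of every point. -/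
theorem exists_specializes (h : Z ⟶ Y) [QuasiCompact h] (hd : DenseRange h.base) (y : Y) :
    ∃ z, h z ⤳ y := by
  obtain ⟨_, ⟨V, hV, rfl⟩, hy, -⟩ := Y.isBasis_affineOpens.exists_subset_of_mem_open
    (Set.mem_univ y) isOpen_univ
  obtain ⟨A, p, hp⟩ := isCompact_iff_exists.1 (h.isCompact_preimage hV.isCompact (U := V))
  have hr : Set.range (p ≫ h) ⊆ Set.range hV.fromSpec := by
    rw [hV.range_fromSpec]
    rintro _ ⟨a, rfl⟩
    exact hp.le ⟨a, rfl⟩
  obtain ⟨ψ, hψ⟩ : ∃ ψ, Spec.map ψ ≫ hV.fromSpec = p ≫ h :=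
    ⟨Spec.preimage (IsOpenImmersion.lift hV.fromSpec (p ≫ h) hr),
      by rw [Spec.map_preimage, IsOpenImmersion.lift_fac]⟩
  have hdense : DenseRange (PrimeSpectrum.comap ψ.hom) := by
    intro q
    have hop := hV.fromSpec.isOpenEmbedding
    have h1 : q ∈ hV.fromSpec ⁻¹' closure (Set.range h) := hd _
    rw [hop.isOpenMap.preimage_closure_eq_closure_preimage hV.fromSpec.continuous] at h1
    refine closure_mono ?_ h1
    intro q' ⟨z, hz⟩
    have hzV : z ∈ h ⁻¹ᵁ V := by
      change h z ∈ V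
      rw [hz, ← SetLike.mem_coe, ← hV.range_fromSpec]
      exact ⟨q', rfl⟩
    obtain ⟨a, ha⟩ := hp.ge hzV
    refine ⟨a, hop.injective ?_⟩
    change hV.fromSpec (Spec.map ψ a) = hV.fromSpec q'
    rw [← Scheme.Hom.comp_apply, hψ, Scheme.Hom.comp_apply, ha, hz]
  obtain ⟨q, hq⟩ : y ∈ Set.range hV.fromSpec := by rw [hV.range_fromSpec]; exact hy
  obtain ⟨I, hI, hI'⟩ := Ideal.exists_minimalPrimes_le (J := q.asIdeal) bot_le
  obtain ⟨a, ha⟩ := (PrimeSpectrum.denseRange_comap_iff_minimalPrimes _).1 hdense I hI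
  have h2 : (Spec.map ψ a) ⤳ q := by
    change PrimeSpectrum.comap ψ.hom a ⤳ q
    rw [ha]
    exact (PrimeSpectrum.le_iff_specializes _ q).1 hI'
  refine ⟨p a, ?_⟩
  rw [← Scheme.Hom.comp_apply, ← hψ, Scheme.Hom.comp_apply, ← hq]
  exact h2.map hV.fromSpec.continuous

end Groth.Agent.ValCrit95
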