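import Mathlib
import Groth.Agent.ValCrit95.Basic

/-!
# Refined valuative criteria through a dominant quasi-compact morphism
-/

universe u

open AlgebraicGeometry CategoryTheory Limits IsLocalRing

namespace Groth.Agent.ValCrit95

variable {X Y Z : Scheme.{u}}

/-- Lifts of every valuative square whose generic point is a point of `Z`. -/
def RefUniq (h : Z ⟶ Y) (f : Y ⟶ X) : Prop :=
  ∀ (z : Z) (R : ValuationSubring ↑(Z.residueField z)) (φ : Spec (CommRingCat.of R) ⟶ X),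
    Spec.map (CommRingCat.ofHom R.subtype) ≫ φ = Z.fromSpecResidueField z ≫ h ≫ f →
    ∀ φ₁ φ₂ : Spec (CommRingCat.of R) ⟶ Y,
      Spec.map (CommRingCat.ofHom R.subtype) ≫ φ₁ = Z.fromSpecResidueField z ≫ h → φ₁ ≫ f = φ →
      Spec.map (CommRingCat.ofHom R.subtype) ≫ φ₂ = Z.fromSpecResidueField z ≫ h → φ₂ ≫ f = φ →
      φ₁ = φ₂

/-- Existence of lifts of every valuative square whose generic point is a point of `Z`. -/
def RefExist (h : Z ⟶ Y) (f : Y ⟶ X) : Prop :=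
  ∀ (z : Z) (R : ValuationSubring ↑(Z.residueField z)) (φ : Spec (CommRingCat.of R) ⟶ X),
    Spec.map (CommRingCat.ofHom R.subtype) ≫ φ = Z.fromSpecResidueField z ≫ h ≫ f →
    ∃ φ' : Spec (CommRingCat.of R) ⟶ Y,
      Spec.map (CommRingCat.ofHom R.subtype) ≫ φ' = Z.fromSpecResidueField z ≫ h ∧ φ' ≫ f = φ

/-- A valuation subring of `κ(z)` dominating `𝒪_{Y,y}`, with its residue field over `κ(y)`. -/
theorem exists_dominating (h : Z ⟶ Y) (z : Z) (y : Y) (hy : h z ⤳ y) :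
    ∃ (R₁ : ValuationSubring ↑(Z.residueField z)) (g₁ : Spec (CommRingCat.of R₁) ⟶ Y)
      (j : ↑(Y.residueField y) →+* ResidueField R₁),
      Spec.map (CommRingCat.ofHom R₁.subtype) ≫ g₁ = Z.fromSpecResidueField z ≫ h ∧
      Spec.map (CommRingCat.ofHom j) ≫ Y.fromSpecResidueField y =
        Spec.map (CommRingCat.ofHom (residue R₁)) ≫ g₁ := by
  let m : Y.presheaf.stalk y ⟶ Z.residueField z :=
    Y.presheaf.stalkSpecializes hy ≫ h.stalkMap z ≫ Z.residue z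
  obtain ⟨R₁, hR₁, hloc⟩ := IsLocalRing.exists_factor_valuationRing m.hom
  let m' := m.hom.codRestrict R₁.toSubring hR₁
  have : IsLocalHom m' := hloc
  let n : Y.presheaf.stalk y ⟶ CommRingCat.of (ResidueField R₁) :=
    CommRingCat.ofHom ((residue R₁).comp m')
  have : IsLocalHom n.hom := RingHom.isLocalHom_comp (residue R₁) m'
  refine ⟨R₁, Spec.map (CommRingCat.ofHom m') ≫ Y.fromSpecStalk y,
    (Scheme.descResidueField n).hom, ?_, ?_⟩
  · rw [← Spec.map_comp_assoc]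
    change Spec.map m ≫ _ = _
    simp [m, Spec.map_comp, Scheme.fromSpecResidueField,
      Scheme.SpecMap_stalkSpecializes_fromSpecStalk, Scheme.SpecMap_stalkMap_fromSpecStalk]
  · rw [← Spec.map_comp_assoc]
    exact Y.descResidueField_fromSpecResidueField n

/-- Extension of a valuation ring to a larger field. -/
theorem exists_extension {k L : Type u} [Field k] [Field L] (R₀ : ValuationSubring k)
    (j : k →+* L) : ∃ Rt : ValuationSubring L, ∀ x, x ∈ R₀ ↔ j x ∈ Rt := by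
  obtain ⟨Rt, hRt, hloc⟩ := IsLocalRing.exists_factor_valuationRing (j.comp R₀.subtype)
  refine ⟨Rt, fun x ↦ ⟨fun hx ↦ hRt ⟨x, hx⟩, fun hx ↦ ?_⟩⟩
  by_contra hx0
  have hxi : x⁻¹ ∈ R₀ := (R₀.mem_or_inv_mem x).resolve_left hx0
  have h0 : x ≠ 0 := fun h ↦ hx0 (h ▸ R₀.zero_mem)
  have : IsUnit ((j.comp R₀.subtype).codRestrict Rt.toSubring hRt ⟨x⁻¹, hxi⟩) :=
    isUnit_iff_exists_inv.2 ⟨⟨j x, hx⟩, Subtype.ext (by
      change j x⁻¹ * j x = 1
      rw [← map_mul, inv_mul_cancel₀ h0, map_one])⟩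
  obtain ⟨w, hw⟩ := isUnit_iff_exists_inv.1 (hloc.map_nonunit _ this)
  have hxw : x⁻¹ * (w : k) = 1 := congr_arg Subtype.val hw
  refine hx0 ?_
  have : x = (w : k) := by
    calc x = x * (x⁻¹ * (w : k)) := by rw [hxw, mul_one]
      _ = (w : k) := by rw [← mul_assoc, mul_inv_cancel₀ h0, one_mul]
  exact this ▸ w.2

/-- The composite of a valuation ring with one of its residue field. -/
def composite {K : Type u} [Field K] (R' : ValuationSubring K)
    (Rt : ValuationSubring (ResidueField R')) : ValuationSubring K :=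
  { (Rt.toSubring.comap (residue R')).map R'.subtype with
    mem_or_inv_mem' := fun x ↦ by
      classical
      have key (x : K) (hx : x ∈ R') (h : residue R' ⟨x, hx⟩ ∈ Rt) :
          x ∈ (Rt.toSubring.comap (residue R')).map R'.subtype := ⟨⟨x, hx⟩, h, rfl⟩
      by_cases hx : x ∈ R'
      · by_cases hu : IsUnit (⟨x, hx⟩ : R')
        · rcases Rt.mem_or_inv_mem (residue R' ⟨x, hx⟩) with h | h
          · exact Or.inl (key x hx h)
          · obtain ⟨w, hw⟩ := isUnit_iff_exists_inv.1 hu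
            have hw' : x * (w : K) = 1 := congr_arg Subtype.val hw
            have hxw : x⁻¹ = (w : K) := inv_eq_of_mul_eq_one_right hw'
            refine Or.inr (key x⁻¹ (hxw ▸ w.2) ?_)
            have he : (⟨x⁻¹, hxw ▸ w.2⟩ : R') = w := Subtype.ext hxw
            have h2 : residue R' ⟨x, hx⟩ * residue R' w = 1 := by rw [← map_mul, hw, map_one]
            rwa [he, ← inv_eq_of_mul_eq_one_right h2]
        · exact Or.inl (key x hx (((residue_eq_zero_iff _).2 hu).symm ▸ Rt.zero_mem))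
      · have hxi : x⁻¹ ∈ R' := (R'.mem_or_inv_mem x).resolve_left hx
        have hu : ¬ IsUnit (⟨x⁻¹, hxi⟩ : R') := fun hu ↦ by
          obtain ⟨w, hw⟩ := isUnit_iff_exists_inv.1 hu
          have hw' : x⁻¹ * (w : K) = 1 := congr_arg Subtype.val hw
          have hxw : x = (w : K) := by
            have := inv_eq_of_mul_eq_one_right hw'
            rwa [inv_inv] at this
          exact hx (hxw ▸ w.2)
        exact Or.inr (key x⁻¹ hxi (((residue_eq_zero_iff _).2 hu).symm ▸ Rt.zero_mem)) }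

theorem mem_composite {K : Type u} [Field K] (R' : ValuationSubring K)
    (Rt : ValuationSubring (ResidueField R')) (x : K) :
    x ∈ composite R' Rt ↔ ∃ hx : x ∈ R', residue R' ⟨x, hx⟩ ∈ Rt := by
  constructor
  · rintro ⟨⟨a, ha⟩, h, rfl⟩; exact ⟨ha, h⟩
  · rintro ⟨hx, h⟩; exact ⟨⟨x, hx⟩, h, rfl⟩

/-- The data used to move a square at `y` to a square at `z`. -/
theorem residue_case (h : Z ⟶ Y) (f : Y ⟶ X) (z : Z) (y : Y) (hy : h z ⤳ y)
    (hU : RefUniq h f) (R₀ : ValuationSubring ↑(Y.residueField y))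
    (φ₀ : Spec (CommRingCat.of R₀) ⟶ X)
    (w : Spec.map (CommRingCat.ofHom R₀.subtype) ≫ φ₀ = Y.fromSpecResidueField y ≫ f) :
    (∀ l l' : Spec (CommRingCat.of R₀) ⟶ Y,
      Spec.map (CommRingCat.ofHom R₀.subtype) ≫ l = Y.fromSpecResidueField y → l ≫ f = φ₀ →
      Spec.map (CommRingCat.ofHom R₀.subtype) ≫ l' = Y.fromSpecResidueField y → l' ≫ f = φ₀ →
      l = l') ∧
    (RefExist h f → ∃ l : Spec (CommRingCat.of R₀) ⟶ Y,
      Spec.map (CommRingCat.ofHom R₀.subtype) ≫ l = Y.fromSpecResidueField y ∧ l ≫ f = φ₀) := by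
  obtain ⟨R₁, g₁, j, hg₁, hj⟩ := exists_dominating h z y hy
  obtain ⟨Rt, hRt⟩ := exists_extension R₀ j
  let ρ : R₀ →+* Rt := (j.comp R₀.subtype).codRestrict Rt.toSubring fun x ↦ (hRt _).1 x.2
  have hρ (x : R₀) : ((ρ x : Rt) : ResidueField R₁) = j (x : ↑(Y.residueField y)) := rfl
  have hle : composite R₁ Rt ≤ R₁ := fun x hx ↦ ((mem_composite _ _ _).1 hx).1
  let ι : composite R₁ Rt →+* R₁ := (composite R₁ Rt).inclusion R₁ hle
  let σ : composite R₁ Rt →+* Rt := ((residue R₁).comp ι).codRestrict Rt.toSubring fun x ↦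
    ((mem_composite _ _ _).1 x.2).2
  have hσs : Function.Surjective σ := fun r ↦ by
    obtain ⟨a, ha⟩ := residue_surjective (r : ResidueField R₁)
    exact ⟨⟨(a : ↑(Z.residueField z)), (mem_composite _ _ _).2 ⟨a.2, by simp [ha]⟩⟩,
      Subtype.ext ha⟩
  have glue {W : Scheme.{u}} (g : Spec (CommRingCat.of R₁) ⟶ W)
      (ht : Spec (CommRingCat.of Rt) ⟶ W) (hc : Spec.map (CommRingCat.ofHom Rt.subtype) ≫ ht =
        Spec.map (CommRingCat.ofHom (residue R₁)) ≫ g) :=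
    existsUnique_glue _ (composite R₁ Rt) R₁ hle ι (fun _ ↦ rfl) Rt σ hσs (fun _ ↦ rfl) g ht hc
  -- the square at `z`
  have hjρ : CommRingCat.ofHom R₀.subtype ≫ CommRingCat.ofHom j =
      CommRingCat.ofHom ρ ≫ CommRingCat.ofHom Rt.subtype :=
    CommRingCat.hom_ext (RingHom.ext fun x ↦ rfl)
  have hup {W : Scheme.{u}} (e : Spec (Y.residueField y) ⟶ W) (l : Spec (CommRingCat.of R₀) ⟶ W)
      (hl : Spec.map (CommRingCat.ofHom R₀.subtype) ≫ l = e) :
      Spec.map (CommRingCat.ofHom Rt.subtype) ≫ Spec.map (CommRingCat.ofHom ρ) ≫ l =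
        Spec.map (CommRingCat.ofHom j) ≫ e := by
    rw [← Spec.map_comp_assoc, ← hjρ, ← hl, Spec.map_comp_assoc]
  have hφt : Spec.map (CommRingCat.ofHom Rt.subtype) ≫ Spec.map (CommRingCat.ofHom ρ) ≫ φ₀ =
      Spec.map (CommRingCat.ofHom (residue R₁)) ≫ g₁ ≫ f := by
    rw [hup _ _ w, reassoc_of% hj]
  obtain ⟨φ₂, ⟨hφ₂ι, hφ₂σ⟩, hφ₂u⟩ := glue (g₁ ≫ f) _ hφt
  have hι : CommRingCat.ofHom ι ≫ CommRingCat.ofHom R₁.subtype =
      CommRingCat.ofHom (composite R₁ Rt).subtype :=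
    CommRingCat.hom_ext (RingHom.ext fun x ↦ rfl)
  have hgen {W : Scheme.{u}} (a : Spec (CommRingCat.of ↥(composite R₁ Rt)) ⟶ W) :
      Spec.map (CommRingCat.ofHom (composite R₁ Rt).subtype) ≫ a =
        Spec.map (CommRingCat.ofHom R₁.subtype) ≫ Spec.map (CommRingCat.ofHom ι) ≫ a := by
    rw [← Spec.map_comp_assoc, hι]
  have hw₂ : Spec.map (CommRingCat.ofHom (composite R₁ Rt).subtype) ≫ φ₂ =
      Z.fromSpecResidueField z ≫ h ≫ f := by
    rw [hgen, hφ₂ι, reassoc_of% hg₁]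
  -- a lift at `y` gives a lift at `z`
  have push (l : Spec (CommRingCat.of R₀) ⟶ Y)
      (hl₁ : Spec.map (CommRingCat.ofHom R₀.subtype) ≫ l = Y.fromSpecResidueField y)
      (hl₂ : l ≫ f = φ₀) :
      ∃ l₂ : Spec (CommRingCat.of ↥(composite R₁ Rt)) ⟶ Y,
        Spec.map (CommRingCat.ofHom (composite R₁ Rt).subtype) ≫ l₂ =
          Z.fromSpecResidueField z ≫ h ∧ l₂ ≫ f = φ₂ ∧
        Spec.map (CommRingCat.ofHom σ) ≫ l₂ = Spec.map (CommRingCat.ofHom ρ) ≫ l := by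
    obtain ⟨l₂, ⟨h1, h2⟩, -⟩ := glue g₁ (Spec.map (CommRingCat.ofHom ρ) ≫ l)
      (by rw [hup _ _ hl₁, hj])
    refine ⟨l₂, by rw [hgen, h1, hg₁], hφ₂u _ ⟨?_, ?_⟩, h2⟩
    · rw [reassoc_of% h1]
    · rw [reassoc_of% h2, hl₂]
  refine ⟨fun l l' hl hlf hl' hl'f ↦ ?_, fun hE ↦ ?_⟩
  · obtain ⟨a, ha1, ha2, ha3⟩ := push l hl hlf
    obtain ⟨b, hb1, hb2, hb3⟩ := push l' hl' hl'f
    have hab := hU z _ φ₂ hw₂ a b ha1 ha2 hb1 hb2
    exact (existsUnique_factor R₀ Rt j hRt ρ hρ _ (Spec.map (CommRingCat.ofHom ρ) ≫ l)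
      (hup _ _ hl)).unique ⟨rfl, hl⟩ ⟨by rw [← hb3, ← hab, ha3], hl'⟩
  · obtain ⟨l₂, hl1, hl2⟩ := hE z _ φ₂ hw₂
    have hιl : Spec.map (CommRingCat.ofHom ι) ≫ l₂ = g₁ :=
      hU z R₁ (g₁ ≫ f) (by rw [reassoc_of% hg₁]) _ _ (by rw [← hgen, hl1])
        (by rw [Category.assoc, hl2, hφ₂ι]) hg₁ rfl
    have hσι : CommRingCat.ofHom σ ≫ CommRingCat.ofHom Rt.subtype =
        CommRingCat.ofHom ι ≫ CommRingCat.ofHom (residue R₁) :=
      CommRingCat.hom_ext (RingHom.ext fun x ↦ rfl)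
    obtain ⟨l, ⟨h1, h2⟩, -⟩ := existsUnique_factor R₀ Rt j hRt ρ hρ (Y.fromSpecResidueField y)
      (Spec.map (CommRingCat.ofHom σ) ≫ l₂) (by
        rw [← Spec.map_comp_assoc, hσι, Spec.map_comp_assoc, hιl, hj])
    refine ⟨l, h2, (existsUnique_factor R₀ Rt j hRt ρ hρ _ (Spec.map (CommRingCat.ofHom ρ) ≫ φ₀)
      (hup _ _ w)).unique ⟨?_, ?_⟩ ⟨rfl, w⟩⟩
    · rw [reassoc_of% h1, hl2, hφ₂σ]
    · rw [reassoc_of% h2]

/-- Lifts of an arbitrary valuative square from lifts at residue fields. -/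
theorem square_case (f : Y ⟶ X)
    (H : ∀ (y : Y) (R₀ : ValuationSubring ↑(Y.residueField y))
      (φ₀ : Spec (CommRingCat.of R₀) ⟶ X),
      Spec.map (CommRingCat.ofHom R₀.subtype) ≫ φ₀ = Y.fromSpecResidueField y ≫ f →
      ∀ l l' : Spec (CommRingCat.of R₀) ⟶ Y,
        Spec.map (CommRingCat.ofHom R₀.subtype) ≫ l = Y.fromSpecResidueField y → l ≫ f = φ₀ →
        Spec.map (CommRingCat.ofHom R₀.subtype) ≫ l' = Y.fromSpecResidueField y → l' ≫ f = φ₀ →
        l = l') (S : ValuativeCommSq f) :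
    Subsingleton S.commSq.LiftStruct ∧
    ((∀ (y : Y) (R₀ : ValuationSubring ↑(Y.residueField y))
      (φ₀ : Spec (CommRingCat.of R₀) ⟶ X),
      Spec.map (CommRingCat.ofHom R₀.subtype) ≫ φ₀ = Y.fromSpecResidueField y ≫ f →
      ∃ l : Spec (CommRingCat.of R₀) ⟶ Y,
        Spec.map (CommRingCat.ofHom R₀.subtype) ≫ l = Y.fromSpecResidueField y ∧ l ≫ f = φ₀) →
      Nonempty S.commSq.LiftStruct) := by
  let R : ValuationSubring S.K :=
    ⟨(algebraMap S.R S.K).range, ValuationRing.isInteger_or_isInteger S.R⟩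
  let e₀ : S.R →+* R := (algebraMap S.R S.K).rangeRestrict
  have he₀ : Function.Bijective e₀ := ⟨fun a b hab ↦ IsFractionRing.injective S.R S.K
    (congr_arg Subtype.val hab), RingHom.rangeRestrict_surjective _⟩
  let e : CommRingCat.of S.R ≅ CommRingCat.of R :=
    (RingEquiv.ofBijective e₀ he₀).toCommRingCatIso
  have he : e.hom ≫ CommRingCat.ofHom R.subtype = CommRingCat.ofHom (algebraMap S.R S.K) :=
    CommRingCat.hom_ext (RingHom.ext fun _ ↦ rfl)
  have : IsIso (Spec.map e.hom) := inferInstance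
  let y : Y := S.i₁ (closedPoint S.K)
  let g : Y.residueField y ⟶ CommRingCat.of S.K :=
    Scheme.descResidueField (Scheme.stalkClosedPointTo S.i₁)
  have hg : Spec.map g ≫ Y.fromSpecResidueField y = S.i₁ :=
    Scheme.descResidueField_stalkClosedPointTo_fromSpecResidueField S.K Y S.i₁
  let R₀ := R.comap g.hom
  let ρ : R₀ →+* R := (g.hom.comp R₀.subtype).codRestrict R.toSubring fun x ↦ x.2
  have fac {W : Scheme.{u}} (t : Spec (Y.residueField y) ⟶ W)
      (φ : Spec (CommRingCat.of S.R) ⟶ W)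
      (w : Spec.map (CommRingCat.ofHom (algebraMap S.R S.K)) ≫ φ = Spec.map g ≫ t) :
      ∃! φ' : Spec (CommRingCat.of R₀) ⟶ W,
        Spec.map (CommRingCat.ofHom ρ) ≫ φ' = Spec.map e.hom ≫ φ ∧
          Spec.map (CommRingCat.ofHom R₀.subtype) ≫ φ' = t :=
    existsUnique_factor R₀ R g.hom (fun _ ↦ Iff.rfl) ρ (fun _ ↦ rfl) t (Spec.map e.hom ≫ φ)
      (by rw [← Spec.map_comp_assoc, he]; exact w)
  obtain ⟨φ₀, ⟨hφ₀ρ, hφ₀⟩, hφ₀u⟩ := fac (Y.fromSpecResidueField y ≫ f) S.i₂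
    (by rw [reassoc_of% hg]; exact S.commSq.w.symm)
  have down (l : S.commSq.LiftStruct) : ∃ l₀ : Spec (CommRingCat.of R₀) ⟶ Y,
      Spec.map (CommRingCat.ofHom R₀.subtype) ≫ l₀ = Y.fromSpecResidueField y ∧ l₀ ≫ f = φ₀ ∧
        l.l = Spec.map e.inv ≫ Spec.map (CommRingCat.ofHom ρ) ≫ l₀ := by
    obtain ⟨l₀, ⟨h1, h2⟩, -⟩ := fac (Y.fromSpecResidueField y) l.l (by rw [hg]; exact l.fac_left)
    refine ⟨l₀, h2, hφ₀u _ ⟨?_, ?_⟩, ?_⟩
    · rw [reassoc_of% h1, l.fac_right]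
    · rw [reassoc_of% h2]
    · rw [h1, ← Spec.map_comp_assoc, e.hom_inv_id, Spec.map_id, Category.id_comp]
  refine ⟨⟨fun a b ↦ ?_⟩, fun hE ↦ ?_⟩
  · obtain ⟨a₀, ha1, ha2, ha3⟩ := down a
    obtain ⟨b₀, hb1, hb2, hb3⟩ := down b
    ext : 1
    rw [ha3, hb3, H y R₀ φ₀ hφ₀ a₀ b₀ ha1 ha2 hb1 hb2]
  · obtain ⟨l₀, hl1, hl2⟩ := hE y R₀ φ₀ hφ₀
    refine ⟨⟨Spec.map e.inv ≫ Spec.map (CommRingCat.ofHom ρ) ≫ l₀, ?_, ?_⟩⟩
    · rw [← Spec.map_comp_assoc]
      have he' : e.inv ≫ CommRingCat.ofHom (algebraMap S.R S.K) = CommRingCat.ofHom R.subtype := by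
        rw [← he, e.inv_hom_id_assoc]
      rw [he']
      have : CommRingCat.ofHom ρ ≫ CommRingCat.ofHom R.subtype =
          CommRingCat.ofHom R₀.subtype ≫ g :=
        CommRingCat.hom_ext (RingHom.ext fun _ ↦ rfl)
      rw [← Spec.map_comp_assoc, this, Spec.map_comp_assoc, hl1, hg]
    · simp only [Category.assoc, hl2, hφ₀ρ]
      rw [← Spec.map_comp_assoc, e.hom_inv_id, Spec.map_id, Category.id_comp]

theorem uniqueness_of_refUniq (h : Z ⟶ Y) (f : Y ⟶ X) [QuasiCompact h] (hd : DenseRange h.base)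
    (hU : RefUniq h f) : ValuativeCriterion.Uniqueness f := fun S ↦
  (square_case f (fun y R₀ φ₀ w ↦ by
    obtain ⟨z, hz⟩ := exists_specializes h hd y
    exact (residue_case h f z y hz hU R₀ φ₀ w).1) S).1

theorem existence_of_refExist (h : Z ⟶ Y) (f : Y ⟶ X) [QuasiCompact h] (hd : DenseRange h.base)
    (hU : RefUniq h f) (hE : RefExist h f) : ValuativeCriterion.Existence f := fun S ↦
  ⟨(square_case f (fun y R₀ φ₀ w ↦ by
    obtain ⟨z, hz⟩ := exists_specializes h hd y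
    exact (residue_case h f z y hz hU R₀ φ₀ w).1) S).2 fun y R₀ φ₀ w ↦ by
    obtain ⟨z, hz⟩ := exists_specializes h hd y
    exact (residue_case h f z y hz hU R₀ φ₀ w).2 hE⟩

theorem refUniq_of_uniqueness (h : Z ⟶ Y) (f : Y ⟶ X) (H : ValuativeCriterion.Uniqueness f) :
    RefUniq h f := by
  intro z R φ w φ₁ φ₂ h₁ h₁' h₂ h₂'
  let S : ValuativeCommSq f := ⟨R, Z.residueField z, Z.fromSpecResidueField z ≫ h, φ,
    ⟨by rw [Category.assoc]; exact w.symm⟩⟩
  exact congr_arg CommSq.LiftStruct.l ((H S).elim ⟨φ₁, h₁, h₁'⟩ ⟨φ₂, h₂, h₂'⟩)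

theorem refExist_of_existence (h : Z ⟶ Y) (f : Y ⟶ X) (H : ValuativeCriterion.Existence f) :
    RefExist h f := by
  intro z R φ w
  let S : ValuativeCommSq f := ⟨R, Z.residueField z, Z.fromSpecResidueField z ≫ h, φ,
    ⟨by rw [Category.assoc]; exact w.symm⟩⟩
  obtain ⟨⟨l, hl, hl'⟩⟩ := (H S).exists_lift
  exact ⟨l, hl, hl'⟩

end Groth.Agent.ValCrit95
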